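import Cfsg.Agent.Lib.Primitive62.Basic
import Cfsg.Agent.Lib.Burnside.Paqb

/-!
Derangement classes coming from a transitive normal power of a non-abelian simple group.
-/

set_option autoImplicit false

namespace Cfsg.Agent.Lib.Primitive62

open MulAction

/-- Number of elements commuting with `x`. -/
noncomputable def centCard {X : Type*} [Mul X] (x : X) : ℕ := Nat.card {y : X // Commute x y}

theorem centCard_map {X Y : Type*} [Mul X] [Mul Y] (f : X ≃* Y) (x : X) :
    centCard (f x) = centCard x :=
  (Nat.card_congr (f.toEquiv.subtypeEquiv fun y =>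
    ⟨fun (h : x * y = y * x) => show f x * f y = f y * f x by rw [← map_mul, h, map_mul],
     fun (h : f x * f y = f y * f x) => f.injective (by rw [map_mul, map_mul]; exact h)⟩)).symm

theorem centCard_pi {S : Type*} [Group S] [Finite S] {k : ℕ} (x : Fin k → S) :
    centCard x = ∏ i, centCard (x i) := by
  unfold centCard
  rw [← Nat.card_pi]
  exact Nat.card_congr
    { toFun := fun y i => ⟨y.1 i, congrFun y.2.eq i⟩
      invFun := fun y => ⟨fun i => (y i).1, funext fun i => (y i).2.eq⟩
      left_inv := fun y => rfl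
      right_inv := fun y => rfl }

theorem centCard_one {S : Type*} [Group S] : centCard (1 : S) = Nat.card S :=
  Nat.card_congr (Equiv.subtypeUnivEquiv fun y => Commute.one_left y)

theorem centCard_pos {S : Type*} [Group S] [Finite S] (x : S) : 0 < centCard x :=
  haveI : Nonempty {y : S // Commute x y} := ⟨⟨1, Commute.one_right x⟩⟩
  Nat.card_pos

theorem centCard_lt {S : Type*} [Group S] [Finite S] [IsSimpleGroup S]
    (hS : ¬ IsMulCommutative S) {u : S} (hu : u ≠ 1) : centCard u < Nat.card S := by
  obtain ⟨y, hy⟩ : ∃ y, ¬ Commute u y := by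
    by_contra h
    push Not at h
    exact hu (Subgroup.mem_bot.mp (CharSimple.center_eq_bot hS ▸
      Subgroup.mem_center_iff.mpr fun y => (h y).eq.symm))
  exact Finite.card_subtype_lt (x := y) hy

theorem centCard_mul_card_class {S : Type*} [Group S] [Finite S] (u : S) :
    Nat.card (ConjClasses.mk u).carrier * centCard u = Nat.card S := by
  have h1 : centCard u = Nat.card (stabilizer (ConjAct S) u) := by
    refine Nat.card_congr (Equiv.subtypeEquiv ConjAct.toConjAct.toEquiv fun y => ?_)
    show Commute u y ↔ ConjAct.toConjAct y ∈ stabilizer (ConjAct S) u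
    rw [mem_stabilizer_iff, ConjAct.toConjAct_smul, mul_inv_eq_iff_eq_mul]
    exact ⟨fun h => h.eq.symm, fun h => h.symm⟩
  have h2 : (ConjClasses.mk u).carrier = orbit (ConjAct S) u := (ConjAct.orbit_eq_carrier_conjClasses u).symm
  rw [h1, h2, ← Nat.card_prod, Nat.card_congr (orbitProdStabilizerEquivGroup (ConjAct S) u)]
  exact Nat.card_congr ConjAct.ofConjAct.toEquiv

/-- A non-abelian simple group has two non-trivial elements with different centraliser orders. -/
theorem exists_centCard_ne {S : Type*} [Group S] [Finite S] [IsSimpleGroup S]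
    (hS : ¬ IsMulCommutative S) :
    ∃ u v : S, u ≠ 1 ∧ v ≠ 1 ∧ centCard u ≠ centCard v := by
  classical
  by_contra h
  push Not at h
  obtain ⟨u₀, hu₀⟩ := exists_ne (1 : S)
  set d := Nat.card (ConjClasses.mk u₀).carrier with hd
  have hd1 : d ≠ 1 := by
    intro h1
    have := centCard_mul_card_class u₀
    rw [← hd, h1, one_mul] at this
    exact (centCard_lt hS hu₀).ne this
  have hall : ∀ u : S, u ≠ 1 → Nat.card (ConjClasses.mk u).carrier = d := fun u hu => by
    apply mul_right_cancel₀ (centCard_pos u).ne'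
    rw [centCard_mul_card_class, h u u₀ hu hu₀, centCard_mul_card_class]
  have := Fintype.ofFinite S
  have heq := Group.nat_card_center_add_sum_card_noncenter_eq_card S
  rw [CharSimple.center_eq_bot hS, Subgroup.card_bot] at heq
  have hdiv : d ∣ ∑ᶠ x ∈ ConjClasses.noncenter S, Nat.card x.carrier := by
    rw [finsum_mem_eq_finite_toFinset_sum _ (Set.toFinite _)]
    refine Finset.dvd_sum fun c hc => ?_
    obtain ⟨u, rfl⟩ := ConjClasses.exists_rep c
    rw [hall u fun h1 => ?_]
    subst h1
    rw [Set.Finite.mem_toFinset] at hc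
    obtain ⟨a, ha, b, hb, hab⟩ := (hc : (ConjClasses.mk (1 : S)).carrier.Nontrivial)
    rw [ConjClasses.mem_carrier_iff_mk_eq, ConjClasses.mk_eq_mk_iff_isConj, isConj_one_left] at ha hb
    exact hab (ha.trans hb.symm)
  have h2 : d ∣ Nat.card S := ⟨_, (centCard_mul_card_class u₀).symm⟩
  rw [← heq] at h2
  exact hd1 (Nat.dvd_one.mp ((Nat.dvd_add_left hdiv).mp h2))

/-- A non-abelian simple group has elements of three different prime orders. -/
theorem exists_three_prime_orders {S : Type*} [Group S] [Finite S] [IsSimpleGroup S]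
    (hS : ¬ IsMulCommutative S) :
    ∃ a b c : S, orderOf a ≠ orderOf b ∧ orderOf a ≠ orderOf c ∧ orderOf b ≠ orderOf c ∧
      a ≠ 1 ∧ b ≠ 1 ∧ c ≠ 1 := by
  classical
  set n := Nat.card S with hn
  have hn0 : n ≠ 0 := Nat.card_pos.ne'
  have h3 : 2 < n.primeFactors.card := by
    by_contra hle
    push Not at hle
    have hsol : Group.IsSolvable S := by
      have he : n = ∏ p ∈ n.primeFactors, p ^ n.factorization p := by
        conv_lhs => rw [← Nat.prod_factorization_pow_eq_self hn0]
        rw [Finsupp.prod, Nat.support_factorization]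
      rcases Nat.lt_or_ge n.primeFactors.card 1 with h0 | h0
      · rw [Finset.card_eq_zero.mp (by omega : n.primeFactors.card = 0), Finset.prod_empty] at he
        exact Burnside.isSolvable_of_card_eq_prime_pow_mul Nat.prime_two Nat.prime_three
          (a := 0) (b := 0) (by simpa [hn] using he)
      rcases Nat.lt_or_ge n.primeFactors.card 2 with h1 | h1
      · obtain ⟨p, hp⟩ := Finset.card_eq_one.mp (by omega : n.primeFactors.card = 1)
        rw [hp, Finset.prod_singleton] at he
        exact Burnside.isSolvable_of_card_eq_prime_pow_mul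
          (Nat.prime_of_mem_primeFactors (hp ▸ Finset.mem_singleton_self p)) Nat.prime_three
          (a := n.factorization p) (b := 0) (by simpa [hn] using he)
      · obtain ⟨p, q, hpq, hp⟩ := Finset.card_eq_two.mp (by omega : n.primeFactors.card = 2)
        rw [hp, Finset.prod_pair hpq] at he
        exact Burnside.isSolvable_of_card_eq_prime_pow_mul
          (Nat.prime_of_mem_primeFactors (hp ▸ Finset.mem_insert_self p {q}))
          (Nat.prime_of_mem_primeFactors (hp ▸ Finset.mem_insert_of_mem (Finset.mem_singleton_self q)))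
          he
    haveI := hsol
    exact hS (IsMulCommutative.of_comm fun a b => IsSimpleGroup.comm_iff_isSolvable.mpr hsol a b)
  obtain ⟨p, hp, q, hq, r, hr, hpq, hpr, hqr⟩ := Finset.two_lt_card.mp h3
  have key : ∀ p ∈ n.primeFactors, ∃ a : S, orderOf a = p ∧ a ≠ 1 := fun p hp => by
    haveI : Fact p.Prime := ⟨Nat.prime_of_mem_primeFactors hp⟩
    obtain ⟨a, ha⟩ := exists_prime_orderOf_dvd_card' (G := S) p (Nat.dvd_of_mem_primeFactors hp)
    exact ⟨a, ha, fun h => (Fact.out : p.Prime).ne_one (by rw [← ha, h, orderOf_one])⟩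
  obtain ⟨a, ha, ha'⟩ := key p hp
  obtain ⟨b, hb, hb'⟩ := key q hq
  obtain ⟨c, hc, hc'⟩ := key r hr
  exact ⟨a, b, c, ha ▸ hb ▸ hpq, ha ▸ hc ▸ hpr, hb ▸ hc ▸ hqr, ha', hb', hc'⟩

section Socle

variable {G : Type*} [Group G] [Finite G] {Ω : Type*} [MulAction G Ω] [FaithfulSMul G Ω]
  [Nonempty Ω] {N : Subgroup G} [IsPretransitive N Ω]
  {S : Type*} [Group S] [Finite S] [IsSimpleGroup S] {k : ℕ}

omit [Finite G] in
theorem coordinate_cases' (e : N ≃* (Fin k → S)) (i : Fin k) :
    (∀ s : S, s ≠ 1 → ∀ ω : Ω, ((e.symm (Pi.mulSingle i s) : N) : G) • ω ≠ ω) ∨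
    (∃ t : S, t ≠ 1 ∧ ∀ x : Fin k → S, x i = t → ∀ ω : Ω, ((e.symm x : N) : G) • ω ≠ ω) := by
  letI : MulAction (Fin k → S) Ω := MulAction.compHom Ω e.symm.toMonoidHom
  haveI : FaithfulSMul (Fin k → S) Ω := ⟨fun h => e.symm.injective (FaithfulSMul.eq_of_smul_eq_smul (α := Ω) h)⟩
  haveI : IsPretransitive (Fin k → S) Ω := ⟨fun a b => by
    obtain ⟨n, hn⟩ := exists_smul_eq N a b
    refine ⟨e n, ?_⟩
    show e.symm (e n) • a = b
    rw [MulEquiv.symm_apply_apply]; exact hn⟩
  exact coordinate_cases (S := S) (Ω := Ω) i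

omit [Finite G] [MulAction G Ω] [FaithfulSMul G Ω] [Nonempty Ω] [IsPretransitive N Ω]
  [Finite S] [IsSimpleGroup S] in
theorem orderOf_single (e : N ≃* (Fin k → S)) (i : Fin k) (s : S) :
    orderOf ((e.symm (Pi.mulSingle i s) : N) : G) = orderOf s := by
  have hinj : Function.Injective
      (N.subtype.comp (e.symm.toMonoidHom.comp (MonoidHom.mulSingle (fun _ : Fin k => S) i))) :=
    fun a b h => Pi.mulSingle_injective i (e.symm.injective (Subtype.ext h))
  exact orderOf_injective _ hinj s

omit [MulAction G Ω] [FaithfulSMul G Ω] [Nonempty Ω] [IsPretransitive N Ω]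
  [Finite S] [IsSimpleGroup S] [Finite G] in
theorem centCard_eq_of_conj [hn : N.Normal] (e : N ≃* (Fin k → S)) {x y : Fin k → S} {g : G}
    (h : g * ((e.symm x : N) : G) * g⁻¹ = ((e.symm y : N) : G)) : centCard x = centCard y := by
  have hy : y = (e.symm.trans ((MulAut.conjNormal (H := N) g).trans e)) x := by
    apply e.symm.injective
    simp only [MulEquiv.trans_apply, MulEquiv.symm_apply_apply]
    exact Subtype.ext (by rw [MulAut.conjNormal_apply]; exact h.symm)
  rw [hy, centCard_map]

omit [MulAction G Ω] [FaithfulSMul G Ω] [Nonempty Ω] [IsPretransitive N Ω] [IsSimpleGroup S]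
  [Finite G] in
theorem centCard_single (i : Fin k) (t : S) :
    centCard (Pi.mulSingle i t : Fin k → S) = centCard t * Nat.card S ^ (k - 1) := by
  classical
  rw [centCard_pi, ← Finset.mul_prod_erase _ _ (Finset.mem_univ i), Pi.mulSingle_eq_same]
  congr 1
  rw [Finset.prod_congr rfl (fun j hj => by
    rw [Pi.mulSingle_eq_of_ne (Finset.ne_of_mem_erase hj), centCard_one]), Finset.prod_const]
  simp

omit [MulAction G Ω] [FaithfulSMul G Ω] [Nonempty Ω] [IsPretransitive N Ω] [IsSimpleGroup S]
  [Finite G] in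
theorem centCard_pair {i j : Fin k} (hij : i ≠ j) (t u : S) :
    centCard (Pi.mulSingle i t * Pi.mulSingle j u : Fin k → S) * Nat.card S =
      centCard t * centCard u * Nat.card S ^ (k - 1) := by
  classical
  have hk : 2 ≤ k := by
    have := Fin.val_ne_iff.mpr hij
    have := i.2; have := j.2
    omega
  have hj : j ∈ Finset.univ.erase i := Finset.mem_erase.mpr ⟨hij.symm, Finset.mem_univ _⟩
  rw [centCard_pi, ← Finset.mul_prod_erase _ _ (Finset.mem_univ i),
    ← Finset.mul_prod_erase _ _ hj]
  rw [Finset.prod_congr rfl (fun l hl => by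
    obtain ⟨hlj, hl'⟩ := Finset.mem_erase.mp hl
    rw [Pi.mul_apply, Pi.mulSingle_eq_of_ne hlj, Pi.mulSingle_eq_of_ne (Finset.ne_of_mem_erase hl'),
      one_mul, centCard_one])]
  rw [Pi.mul_apply, Pi.mul_apply, Pi.mulSingle_eq_same, Pi.mulSingle_eq_of_ne hij,
    Pi.mulSingle_eq_same, Pi.mulSingle_eq_of_ne hij.symm, mul_one, one_mul, Finset.prod_const,
    Finset.card_erase_of_mem hj, Finset.card_erase_of_mem (Finset.mem_univ i), Finset.card_univ,
    Fintype.card_fin, mul_assoc, mul_assoc, mul_assoc, ← pow_succ, show k - 1 - 1 + 1 = k - 1 by omega]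

/-- A transitive normal power of a non-abelian simple group which is not simple, or is regular,
contains three derangements no two of which are conjugate in the whole group. -/
theorem three_derangement_classes [N.Normal] (hS : ¬ IsMulCommutative S)
    (e : N ≃* (Fin k → S)) (hk : 1 ≤ k) (h : 2 ≤ k ∨ ∀ a : Ω, stabilizer N a = ⊥) :
    ∃ f : Fin 3 → G, (∀ l, ∀ ω : Ω, f l • ω ≠ ω) ∧ ∀ l m, IsConj (f l) (f m) → l = m := by
  let i : Fin k := ⟨0, hk⟩
  have hcase : (∀ s : S, s ≠ 1 → ∀ ω : Ω, ((e.symm (Pi.mulSingle i s) : N) : G) • ω ≠ ω) ∨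
      (2 ≤ k ∧ ∃ t : S, t ≠ 1 ∧
        ∀ x : Fin k → S, x i = t → ∀ ω : Ω, ((e.symm x : N) : G) • ω ≠ ω) := by
    rcases h with h2 | hreg
    · exact (coordinate_cases' (Ω := Ω) e i).imp_right fun h' => ⟨h2, h'⟩
    · refine Or.inl fun s hs ω hω => hs ?_
      have h2 : e.symm (Pi.mulSingle i s) = 1 := by rw [← Subgroup.mem_bot, ← hreg ω]; exact hω
      exact (Pi.mulSingle_eq_one_iff).mp (e.symm.injective (h2.trans (map_one _).symm))
  rcases hcase with hsingle | ⟨hk2, t, ht1, ht⟩
  · obtain ⟨a, b, c, hab, hac, hbc, ha, hb, hc⟩ := exists_three_prime_orders hS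
    refine ⟨fun l => ((e.symm (Pi.mulSingle i (![a, b, c] l)) : N) : G), fun l => ?_, fun l m hlm => ?_⟩
    · apply hsingle
      fin_cases l <;> assumption
    · obtain ⟨g, hg⟩ := isConj_iff.mp hlm
      have h1 := congrArg orderOf hg
      rw [← MulAut.conj_apply, MulEquiv.orderOf_eq, orderOf_single, orderOf_single] at h1
      fin_cases l <;> fin_cases m <;> simp_all [eq_comm]
  · let j : Fin k := ⟨1, hk2⟩
    have hij : i ≠ j := by simp [i, j, Fin.ext_iff]
    obtain ⟨u, v, hu, hv, huv⟩ := exists_centCard_ne hS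
    refine ⟨fun l => ((e.symm (![Pi.mulSingle i t, Pi.mulSingle i t * Pi.mulSingle j u,
      Pi.mulSingle i t * Pi.mulSingle j v] l) : N) : G), fun l => ?_, fun l m hlm => ?_⟩
    · apply ht
      fin_cases l <;> simp [hij]
    · obtain ⟨g, hg⟩ := isConj_iff.mp hlm
      have h1 := centCard_eq_of_conj e hg
      have h2 := congrArg (· * Nat.card S) h1
      have hpos : 0 < centCard t * Nat.card S ^ (k - 1) :=
        Nat.mul_pos (centCard_pos t) (pow_pos Nat.card_pos _)
      have hu' := centCard_lt hS hu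
      have hv' := centCard_lt hS hv
      have e0 : centCard (Pi.mulSingle i t : Fin k → S) * Nat.card S =
          centCard t * Nat.card S ^ (k - 1) * Nat.card S := by rw [centCard_single]
      have e1 : ∀ w : S, centCard (Pi.mulSingle i t * Pi.mulSingle j w : Fin k → S) * Nat.card S =
          centCard t * Nat.card S ^ (k - 1) * centCard w := fun w => by
        rw [centCard_pair hij]; ring
      fin_cases l <;> fin_cases m <;> (try rfl) <;>
        simp only [Fin.isValue, Fin.zero_eta, Fin.mk_one, Fin.reduceFinMk, Matrix.cons_val_zero,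
          Matrix.cons_val_one, Matrix.cons_val] at h2 <;>
        simp only [e0, e1] at h2 <;>
        have h3 := Nat.eq_of_mul_eq_mul_left hpos h2 <;>
        first
          | rfl
          | omega

end Socle

end Cfsg.Agent.Lib.Primitive62
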