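import Cfsg.Agent.Lib.Perm.Basic
import Cfsg.Agent.Lib.CharSimple.Basic

/-!
Minimal normal subgroups of finite primitive groups, and derangements in transitive actions of
powers of a non-abelian simple group.
-/

set_option autoImplicit false

namespace Cfsg.Agent.Lib.Primitive62

open MulAction

/-- Burnside's lemma with `Nat.card`. -/
theorem sum_fixedBy (G X : Type*) [Group G] [Fintype G] [MulAction G X] [Finite X] :
    ∑ g : G, Nat.card (fixedBy X g) = Nat.card (orbitRel.Quotient G X) * Nat.card G := by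
  classical
  have := Fintype.ofFinite X
  let : Fintype (Quotient (orbitRel G X)) := Fintype.ofFinite _
  simp only [Nat.card_eq_fintype_card]
  rw [sum_card_fixedBy_eq_card_orbits_mul_card_group G X]

theorem card_orbits_eq_one (G X : Type*) [Group G] [MulAction G X] [IsPretransitive G X]
    [Nonempty X] : Nat.card (orbitRel.Quotient G X) = 1 := by
  rw [Nat.card_eq_one_iff_unique]
  exact ⟨(pretransitive_iff_subsingleton_quotient G X).mp inferInstance,
    ⟨Quotient.mk'' (Classical.arbitrary X)⟩⟩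

/-- Jordan: a finite transitive group of degree at least 2 has a derangement. -/
theorem exists_derangement (G X : Type*) [Group G] [Finite G] [MulAction G X] [Finite X]
    [IsPretransitive G X] [Nontrivial X] : ∃ g : G, ∀ x : X, g • x ≠ x := by
  by_contra h
  push Not at h
  have := Fintype.ofFinite G
  have h1 := sum_fixedBy G X
  rw [card_orbits_eq_one G X, one_mul, Nat.card_eq_fintype_card (α := G),
    Fintype.card_eq_sum_ones] at h1
  have h2 : ∑ _g : G, 1 < ∑ g : G, Nat.card (fixedBy X g) := by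
    refine Finset.sum_lt_sum (fun g _ => ?_) ⟨1, Finset.mem_univ _, ?_⟩
    · obtain ⟨x, hx⟩ := h g
      have : Nonempty (fixedBy X g) := ⟨⟨x, hx⟩⟩
      exact Nat.card_pos
    · have : fixedBy X (1 : G) = Set.univ := by ext x; simp
      rw [this, Nat.card_univ]
      exact Finite.one_lt_card
  omega

/-- A finite group is not the union of the conjugates of a proper subgroup. -/
theorem exists_not_mem_conj {G : Type*} [Group G] [Finite G] (H : Subgroup G) (hH : H ≠ ⊤) :
    ∃ t : G, ∀ g : G, g⁻¹ * t * g ∉ H := by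
  have : Nontrivial (G ⧸ H) := by
    rw [← Finite.one_lt_card_iff_nontrivial, ← Subgroup.index_eq_card]
    exact H.one_lt_index_of_ne_top hH
  obtain ⟨t, ht⟩ := exists_derangement G (G ⧸ H)
  refine ⟨t, fun g hg => ht (g : G ⧸ H) ?_⟩
  rw [MulAction.Quotient.smul_coe, QuotientGroup.eq, smul_eq_mul]
  have := H.inv_mem hg
  simpa [mul_assoc] using this

/-- Below a non-trivial normal subgroup there is a minimal one. -/
theorem exists_minimal_normal {G : Type*} [Group G] [Finite G] (K : Subgroup G) [hKn : K.Normal]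
    (hK : K ≠ ⊥) : ∃ N : Subgroup G, N.Normal ∧ N ≠ ⊥ ∧ N ≤ K ∧
      ∀ M : Subgroup G, M.Normal → M ≤ N → M = ⊥ ∨ M = N := by
  obtain ⟨N, hN, hmin⟩ := (Set.toFinite {N : Subgroup G | N.Normal ∧ N ≠ ⊥ ∧ N ≤ K}).exists_minimal
    ⟨K, hKn, hK, le_rfl⟩
  refine ⟨N, hN.1, hN.2.1, hN.2.2, fun M hM hMN => ?_⟩
  by_cases h : M = ⊥
  · exact Or.inl h
  · exact Or.inr (le_antisymm hMN (hmin ⟨hM, h, hMN.trans hN.2.2⟩ hMN))

/-- A minimal normal subgroup is characteristically simple. -/
theorem charSimple_of_minimal {G : Type*} [Group G] (N : Subgroup G) [N.Normal]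
    (hmin : ∀ M : Subgroup G, M.Normal → M ≤ N → M = ⊥ ∨ M = N)
    (H : Subgroup N) [H.Characteristic] : H = ⊥ ∨ H = ⊤ := by
  have hn : (H.map N.subtype).Normal := ConjAct.normal_of_characteristic_of_normal
  rcases hmin _ hn (Subgroup.map_subtype_le H) with h | h
  · exact Or.inl ((Subgroup.map_eq_bot_iff_of_injective H N.subtype_injective).mp h)
  · refine Or.inr (Subgroup.map_injective N.subtype_injective ?_)
    rw [h, ← MonoidHom.range_eq_map, Subgroup.range_subtype]

/-- Structure of a minimal normal subgroup: elementary abelian, or a power of a non-abelian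
simple group. -/
theorem minimal_normal_cases {G : Type*} [Group G] [Finite G] (N : Subgroup G) [N.Normal]
    (hN : N ≠ ⊥) (hmin : ∀ M : Subgroup G, M.Normal → M ≤ N → M = ⊥ ∨ M = N) :
    (IsMulCommutative N ∧ ∃ r : ℕ, r.Prime ∧ ∀ n ∈ N, n ^ r = 1) ∨
    (∃ (S : Type) (_ : Group S) (_ : IsSimpleGroup S) (_ : Finite S) (k : ℕ),
      1 ≤ k ∧ ¬ IsMulCommutative S ∧ Nonempty (N ≃* (Fin k → S))) := by
  have : Nontrivial N := (Subgroup.nontrivial_iff_ne_bot N).mpr hN
  obtain ⟨S, iS, iSs, k, hk, ⟨e⟩⟩ := CharSimple.exists_mulEquiv_pi (G := N)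
    fun H hH => charSimple_of_minimal N hmin H
  have : Finite S := by
    have : Finite (Fin k → S) := Finite.of_equiv _ e.toEquiv
    exact Finite.of_injective (fun s => (fun _ => s : Fin k → S))
      fun a b h => congrFun h ⟨0, hk⟩
  by_cases hS : IsMulCommutative S
  · refine Or.inl ⟨IsMulCommutative.of_comm fun a b => e.injective (funext fun i => ?_), ?_⟩
    · rw [map_mul, map_mul, Pi.mul_apply, Pi.mul_apply]
      exact mul_comm' _ _
    · let : CommGroup S := { iS with mul_comm := mul_comm' }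
      have hp : (Nat.card S).Prime := IsSimpleGroup.prime_card
      refine ⟨Nat.card S, hp, fun n hn => ?_⟩
      have h1 : (e ⟨n, hn⟩) ^ Nat.card S = 1 := funext fun i => pow_card_eq_one'
      rw [← map_pow, MulEquiv.map_eq_one_iff] at h1
      exact congrArg Subtype.val h1
  · exact Or.inr ⟨S, iS, iSs, inferInstance, k, hk, hS, ⟨e⟩⟩

/-- A non-abelian simple group is not a `p`-group. -/
theorem not_isPGroup_of_simple {S : Type*} [Group S] [Finite S] [IsSimpleGroup S]
    (hS : ¬ IsMulCommutative S) (p : ℕ) [Fact p.Prime] : ¬ IsPGroup p S := fun h => by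
  have := h.center_nontrivial
  exact (Subgroup.nontrivial_iff_ne_bot _).mp this (CharSimple.center_eq_bot hS)

theorem not_isPGroup_of_simple' {S : Type*} [Group S] [Finite S] [IsSimpleGroup S]
    (hS : ¬ IsMulCommutative S) {p : ℕ} (hp : p.Prime)
    (h : ∀ s : S, ∃ j : ℕ, s ^ p ^ j = 1) : False :=
  haveI : Fact p.Prime := ⟨hp⟩
  not_isPGroup_of_simple hS p h

/-- The alternatives for a finite faithful primitive group: affine type, almost simple, or a
transitive minimal normal power of a non-abelian simple group which is not simple or is regular. -/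
theorem primitive_cases {G : Type*} [Group G] [Finite G] {Ω : Type*} [MulAction G Ω]
    [FaithfulSMul G Ω] [IsPreprimitive G Ω] [Nontrivial Ω] :
    (∃ (N : Subgroup G) (r : ℕ), r.Prime ∧ N.Normal ∧ N ≠ ⊥ ∧ IsMulCommutative N ∧
      (∀ n ∈ N, n ^ r = 1) ∧ IsPretransitive N Ω ∧ ∀ a : Ω, stabilizer N a = ⊥) ∨
    (∃ T : Subgroup G, T.Normal ∧ IsSimpleGroup T ∧ ¬ IsMulCommutative T ∧
      Subgroup.centralizer (T : Set G) = ⊥) ∨
    (∃ N : Subgroup G, N.Normal ∧ IsPretransitive N Ω ∧
      (∀ M : Subgroup G, M.Normal → M ≤ N → M = ⊥ ∨ M = N) ∧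
      ∃ (S : Type) (_ : Group S) (_ : IsSimpleGroup S) (_ : Finite S) (k : ℕ),
        1 ≤ k ∧ ¬ IsMulCommutative S ∧ Nonempty (N ≃* (Fin k → S)) ∧
        (2 ≤ k ∨ ∀ a : Ω, stabilizer N a = ⊥)) := by
  have hG : (⊤ : Subgroup G) ≠ ⊥ := by
    intro h
    obtain ⟨a, b, hab⟩ := exists_pair_ne Ω
    obtain ⟨g, hg⟩ := exists_smul_eq G a b
    have h1 : g = 1 := by rw [← Subgroup.mem_bot, ← h]; trivial
    rw [h1, one_smul] at hg
    exact hab hg
  obtain ⟨N, hNn, hN, -, hmin⟩ := exists_minimal_normal (⊤ : Subgroup G) hG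
  have hNt := Perm.normal_isPretransitive_of_ne_bot (X := Ω) N hN
  rcases minimal_normal_cases N hN hmin with ⟨hc, r, hr, he⟩ | ⟨S, iS, iSs, iSf, k, hk, hS, ⟨e⟩⟩
  · exact Or.inl ⟨N, r, hr, hNn, hN, hc, he, hNt,
      fun a => Perm.stabilizer_eq_bot_of_comm_transitive N a⟩
  refine Or.inr ?_
  by_cases hC : Subgroup.centralizer (N : Set G) = ⊥
  · rcases Nat.lt_or_ge k 2 with h2 | h2
    · obtain rfl : k = 1 := by omega
      let e' : N ≃* S := e.trans (MulEquiv.piUnique fun _ : Fin 1 => S)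
      refine Or.inl ⟨N, hNn, e'.isSimpleGroup, fun h => hS ?_, hC⟩
      exact IsMulCommutative.of_comm fun a b => e'.symm.injective (by
        rw [map_mul, map_mul]; exact mul_comm' _ _)
    · exact Or.inr ⟨N, hNn, hNt, hmin, S, iS, iSs, iSf, k, hk, hS, ⟨e⟩, Or.inl h2⟩
  · refine Or.inr ⟨N, hNn, hNt, hmin, S, iS, iSs, iSf, k, hk, hS, ⟨e⟩, Or.inr fun a => ?_⟩
    have := Perm.normal_isPretransitive_of_ne_bot (X := Ω) _ hC
    refine Perm.stabilizer_subgroup_eq_bot_iff.mpr fun n hn hna => ?_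
    exact Perm.eq_one_of_commute_transitive _
      (fun c hc => Subgroup.mem_centralizer_iff.mp hc n hn) hna

/-- In a transitive action a normal subgroup fixing one point fixes all. -/
theorem eq_bot_of_normal_le_stabilizer {G Ω : Type*} [Group G] [MulAction G Ω]
    [FaithfulSMul G Ω] [IsPretransitive G Ω] (K : Subgroup G) [hK : K.Normal] (a : Ω)
    (h : K ≤ stabilizer G a) : K = ⊥ := by
  refine (Subgroup.eq_bot_iff_forall K).mpr fun k hk =>
    FaithfulSMul.eq_of_smul_eq_smul (α := Ω) fun b => ?_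
  obtain ⟨g, rfl⟩ := exists_smul_eq G a b
  have h1 : (g⁻¹ * k * g) • a = a := h (by simpa using hK.conj_mem k hk g⁻¹)
  rw [mul_smul, mul_smul, inv_smul_eq_iff] at h1
  rw [one_smul]; exact h1

section Power

variable {S : Type*} [Group S] [Finite S] [IsSimpleGroup S] {k : ℕ} {Ω : Type*}
  [MulAction (Fin k → S) Ω] [FaithfulSMul (Fin k → S) Ω] [IsPretransitive (Fin k → S) Ω]

/-- For a transitive faithful action of `S^k`, in each coordinate `i`: either all non-trivial
elements of the `i`-th factor are derangements, or some value `t ≠ 1` of the `i`-th coordinate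
forces a derangement. -/
theorem coordinate_cases [Nonempty Ω] (i : Fin k) :
    (∀ s : S, s ≠ 1 → ∀ ω : Ω, (Pi.mulSingle i s : Fin k → S) • ω ≠ ω) ∨
    (∃ t : S, t ≠ 1 ∧ ∀ x : Fin k → S, x i = t → ∀ ω : Ω, x • ω ≠ ω) := by
  obtain ⟨α⟩ := (inferInstance : Nonempty Ω)
  let ι := MonoidHom.mulSingle (fun _ : Fin k => S) i
  let M := stabilizer (Fin k → S) α
  let A : Subgroup S := M.comap ι
  have key : ∀ ω : Ω, ∀ x : Fin k → S, x • ω = ω →
      ∃ y : Fin k → S, y⁻¹ * x * y ∈ M := by
    intro ω x hx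
    obtain ⟨y, rfl⟩ := exists_smul_eq (Fin k → S) α ω
    exact ⟨y, by rw [mem_stabilizer_iff, mul_smul, mul_smul, hx, inv_smul_smul]⟩
  by_cases hA : A = ⊥
  · refine Or.inl fun s hs ω hω => hs ?_
    obtain ⟨y, hy⟩ := key ω _ hω
    have h1 : ι ((y i)⁻¹ * s * y i) = y⁻¹ * Pi.mulSingle i s * y := by
      ext j
      rcases eq_or_ne j i with rfl | hj
      · simp [ι]
      · simp [ι, hj]
    have h2 : (y i)⁻¹ * s * y i = 1 := by
      rw [← Subgroup.mem_bot, ← hA]
      show ι _ ∈ M
      rw [h1]; exact hy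
    calc s = y i * ((y i)⁻¹ * s * y i) * (y i)⁻¹ := by group
      _ = 1 := by rw [h2]; group
  · let R : Subgroup S := M.map (Pi.evalMonoidHom (fun _ : Fin k => S) i)
    have hR : R ≠ ⊤ := by
      intro hRT
      have hn : A.Normal := by
        refine ⟨fun a ha t => ?_⟩
        obtain ⟨x, hx, rfl⟩ := Subgroup.mem_map.mp (hRT ▸ Subgroup.mem_top t)
        show ι _ ∈ M
        have h1 : ι (x i * a * (x i)⁻¹) = x * ι a * x⁻¹ := by
          ext j
          rcases eq_or_ne j i with rfl | hj
          · simp [ι]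
          · simp [ι, hj]
        change ι (x i * a * (x i)⁻¹) ∈ M
        rw [h1]
        exact M.mul_mem (M.mul_mem hx ha) (M.inv_mem hx)
      have hAT : A = ⊤ := (hn.eq_bot_or_eq_top).resolve_left hA
      have hnr : ι.range.Normal := by
        constructor
        rintro _ ⟨s, rfl⟩ x
        refine ⟨x i * s * (x i)⁻¹, ?_⟩
        ext j
        rcases eq_or_ne j i with rfl | hj
        · simp [ι]
        · simp [ι, hj]
      have hle : ι.range ≤ M := by
        rintro _ ⟨s, rfl⟩
        exact (hAT ▸ Subgroup.mem_top s : s ∈ A)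
      have hb := eq_bot_of_normal_le_stabilizer ι.range α hle
      obtain ⟨s, hs⟩ := exists_ne (1 : S)
      have h3 : ι s = 1 := Subgroup.mem_bot.mp (hb ▸ ⟨s, rfl⟩)
      exact hs (by simpa [ι] using congrFun h3 i)
    obtain ⟨t, ht⟩ := exists_not_mem_conj R hR
    refine Or.inr ⟨t, fun h1 => ht 1 (by simp [h1, R.one_mem]), fun x hx ω hω => ?_⟩
    obtain ⟨y, hy⟩ := key ω x hω
    apply ht (y i)
    exact ⟨_, hy, by simp [hx]⟩

omit [Finite S] [IsSimpleGroup S] [FaithfulSMul (Fin k → S) Ω] [IsPretransitive (Fin k → S) Ω] in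
/-- If a transitive power of `S` acts regularly, every non-trivial element is a derangement. -/
theorem derangement_of_regular (h : ∀ a : Ω, stabilizer (Fin k → S) a = ⊥)
    {x : Fin k → S} (hx : x ≠ 1) (ω : Ω) : x • ω ≠ ω := fun he =>
  hx (Subgroup.mem_bot.mp (h ω ▸ mem_stabilizer_iff.mpr he))

end Power

end Cfsg.Agent.Lib.Primitive62
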