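import Cfsg.Agent.Lib.Primitive62.Basic

/-!
Counting derangements: sharply 2-transitive groups and regular normal subgroups.
-/

set_option autoImplicit false

namespace Cfsg.Agent.Lib.Primitive62

open MulAction

variable {G : Type*} [Group G] [Finite G] {Ω : Type*} [MulAction G Ω] [FaithfulSMul G Ω] [Finite Ω]

/-- If every derangement lies in a regular normal subgroup `N`, no non-trivial element fixes
two points. -/
theorem fixedBy_le_one_of_derangements_subset [Nonempty Ω] (N : Subgroup G)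
    [IsPretransitive N Ω] (hreg : ∀ a : Ω, stabilizer N a = ⊥)
    (hD : ∀ g : G, (∀ ω : Ω, g • ω ≠ ω) → g ∈ N) (g : G) (hg : g ≠ 1) :
    Nat.card (fixedBy Ω g) ≤ 1 := by
  classical
  have := Fintype.ofFinite G
  haveI : IsPretransitive G Ω := ⟨fun a b => by
    obtain ⟨n, hn⟩ := exists_smul_eq N a b
    exact ⟨n, hn⟩⟩
  have hsum := sum_fixedBy G Ω
  rw [card_orbits_eq_one, one_mul] at hsum
  obtain ⟨a⟩ := (inferInstance : Nonempty Ω)
  have hNn : Nat.card N = Nat.card Ω := Perm.card_eq_of_regular N (hreg a)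
  have hval : ∀ x ∈ (Finset.univ.filter fun x : G => x ∈ N),
      Nat.card (fixedBy Ω x) = if x = 1 then Nat.card Ω else 0 := by
    intro x hx
    split_ifs with h1
    · subst h1
      have : fixedBy Ω (1 : G) = Set.univ := by ext ω; simp
      rw [this, Nat.card_univ]
    · refine Nat.card_eq_zero.mpr (Or.inl ⟨fun ⟨ω, hω⟩ => h1 ?_⟩)
      exact Perm.stabilizer_subgroup_eq_bot_iff.mp (hreg ω) x (Finset.mem_filter.mp hx).2 hω
  rw [← Finset.sum_filter_add_sum_filter_not Finset.univ (fun x : G => x ∈ N),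
    Finset.sum_congr rfl hval, Finset.sum_ite_eq'] at hsum
  rw [if_pos (Finset.mem_filter.mpr ⟨Finset.mem_univ _, N.one_mem⟩)] at hsum
  have hge : ∀ x ∈ (Finset.univ.filter fun x : G => ¬ x ∈ N), 1 ≤ Nat.card (fixedBy Ω x) := by
    intro x hx
    obtain ⟨ω, hω⟩ : ∃ ω : Ω, x • ω = ω := by
      by_contra h
      push Not at h
      exact (Finset.mem_filter.mp hx).2 (hD x h)
    haveI : Nonempty (fixedBy Ω x) := ⟨⟨ω, hω⟩⟩
    exact Nat.card_pos
  by_cases hgN : g ∈ N
  · have := hval g (Finset.mem_filter.mpr ⟨Finset.mem_univ _, hgN⟩)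
    rw [if_neg hg] at this
    omega
  · by_contra hlt
    have h2 : ∑ _x ∈ (Finset.univ.filter fun x : G => ¬ x ∈ N), 1 <
        ∑ x ∈ (Finset.univ.filter fun x : G => ¬ x ∈ N), Nat.card (fixedBy Ω x) :=
      Finset.sum_lt_sum hge ⟨g, Finset.mem_filter.mpr ⟨Finset.mem_univ _, hgN⟩, by omega⟩
    have h3 : ∑ _x ∈ (Finset.univ.filter fun x : G => x ∈ N), 1 +
        ∑ _x ∈ (Finset.univ.filter fun x : G => ¬ x ∈ N), 1 = Nat.card G := by
      rw [Finset.sum_filter_add_sum_filter_not, Nat.card_eq_fintype_card,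
        Fintype.card_eq_sum_ones]
    have h4 : ∑ _x ∈ (Finset.univ.filter fun x : G => x ∈ N), 1 = Nat.card N := by
      simp [Nat.card_eq_fintype_card, Fintype.card_subtype]
    omega

omit [Finite G] in
/-- In a group with no non-trivial element fixing two points, distinct points are separated. -/
theorem smul_ne_of_fixedBy_le_one (h : ∀ g : G, g ≠ 1 → Nat.card (fixedBy Ω g) ≤ 1)
    (g : G) (hg : g ≠ 1) (a b : Ω) (hab : a ≠ b) (ha : g • a = a) : g • b ≠ b := fun hb => by
  have hf := h g hg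
  haveI : Nontrivial (fixedBy Ω g) := ⟨⟨⟨a, ha⟩, ⟨b, hb⟩, fun e => hab (congrArg Subtype.val e)⟩⟩
  have := Finite.one_lt_card (α := fixedBy Ω g)
  omega

/-- A sharply 2-transitive finite group has a single class of derangements. -/
theorem card_derangementClasses_of_sharp [Nontrivial Ω] (h2 : IsMultiplyPretransitive G Ω 2)
    (hs : ∀ g : G, g ≠ 1 → ∀ a b : Ω, a ≠ b → g • a = a → g • b ≠ b) :
    Nat.card {c : ConjClasses G // ∃ g : G, ConjClasses.mk g = c ∧ ∀ ω : Ω, g • ω ≠ ω} = 1 := by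
  classical
  have := Fintype.ofFinite G
  haveI : IsPretransitive G Ω := Perm.isPretransitive_of_two h2
  obtain ⟨d, hd⟩ := exists_derangement G Ω
  obtain ⟨α, β, hαβ⟩ := exists_pair_ne Ω
  -- the derangements number `n - 1`
  have hsum := sum_fixedBy G Ω
  rw [card_orbits_eq_one, one_mul] at hsum
  have hval : ∀ x : G, Nat.card (fixedBy Ω x) =
      if x = 1 then Nat.card Ω else if ∀ ω : Ω, x • ω ≠ ω then 0 else 1 := by
    intro x
    split_ifs with h1 hder
    · subst h1
      have : fixedBy Ω (1 : G) = Set.univ := by ext ω; simp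
      rw [this, Nat.card_univ]
    · exact Nat.card_eq_zero.mpr (Or.inl ⟨fun ⟨ω, hω⟩ => hder ω hω⟩)
    · push Not at hder
      obtain ⟨ω, hω⟩ := hder
      rw [Nat.card_eq_one_iff_unique]
      refine ⟨⟨fun ⟨a, ha⟩ ⟨b, hb⟩ => Subtype.ext ?_⟩, ⟨⟨ω, hω⟩⟩⟩
      by_contra hab
      exact hs x h1 a b hab ha hb
  have hpt : ∀ x : G, Nat.card (fixedBy Ω x) + (if ∀ ω : Ω, x • ω ≠ ω then 1 else 0) + (if x = 1 then 1 else 0)
      = 1 + (if x = 1 then Nat.card Ω else 0) := by
    intro x
    rw [hval x]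
    split_ifs with h1 hder <;> try omega
    exact absurd (by rw [h1, one_smul]) (hder α)
  have htot := Finset.sum_congr (s₁ := (Finset.univ : Finset G)) rfl fun x _ => hpt x
  simp only [Finset.sum_add_distrib, Finset.sum_ite_eq', Finset.mem_univ, if_true, hsum,
    ← Fintype.card_eq_sum_ones, ← Nat.card_eq_fintype_card, Finset.sum_boole,
    Nat.cast_id] at htot
  set D := Finset.univ.filter fun x : G => ∀ ω : Ω, x • ω ≠ ω with hDdef
  have hDcard : D.card + 1 = Nat.card Ω := by omega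
  -- the stabiliser of `α` acts regularly by conjugation on derangements
  have hH : Nat.card Ω ≤ Nat.card (stabilizer G α) + 1 := by
    have hsurj : Function.Surjective fun o : Option (stabilizer G α) =>
        o.elim α fun h => (h : G) • β := by
      intro b
      by_cases hb : b = α
      · exact ⟨none, hb.symm⟩
      · obtain ⟨g, hg1, hg2⟩ := Perm.exists_smul_two h2 hαβ (Ne.symm hb)
        exact ⟨some ⟨g, hg1⟩, hg2⟩
    have := Nat.card_le_card_of_surjective _ hsurj
    rwa [Finite.card_option] at this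
  have hinj : Function.Injective fun h : stabilizer G α => (h : G) * d * (h : G)⁻¹ := by
    intro a b hab
    by_contra hne
    set c := (b : G)⁻¹ * (a : G) with hc
    have hc1 : c ≠ 1 := fun h => hne (Subtype.ext (inv_mul_eq_one.mp h).symm)
    have hcα : c • α = α := (stabilizer G α).mul_mem ((stabilizer G α).inv_mem b.2) a.2
    have hcd : c * d = d * c := by
      have h1 : (a : G) * d * (a : G)⁻¹ = (b : G) * d * (b : G)⁻¹ := hab
      rw [hc]
      calc (b : G)⁻¹ * a * d = (b : G)⁻¹ * ((a : G) * d * (a : G)⁻¹) * a := by group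
        _ = (b : G)⁻¹ * ((b : G) * d * (b : G)⁻¹) * a := by rw [h1]
        _ = d * ((b : G)⁻¹ * a) := by group
    refine hs c hc1 α (d • α) (Ne.symm (hd α)) hcα ?_
    rw [← mul_smul, hcd, mul_smul, hcα]
  have himg : Finset.univ.image (fun h : stabilizer G α => (h : G) * d * (h : G)⁻¹) = D := by
    refine Finset.eq_of_subset_of_card_le ?_ ?_
    · intro x hx
      obtain ⟨h, -, rfl⟩ := Finset.mem_image.mp hx
      refine Finset.mem_filter.mpr ⟨Finset.mem_univ _, fun ω hω => hd ((h : G)⁻¹ • ω) ?_⟩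
      rw [mul_smul, mul_smul] at hω
      exact eq_inv_smul_iff.mpr hω
    · rw [Finset.card_image_of_injective _ hinj, Finset.card_univ, ← Nat.card_eq_fintype_card]
      omega
  rw [Nat.card_eq_one_iff_unique]
  refine ⟨⟨?_⟩, ⟨⟨ConjClasses.mk d, d, rfl, hd⟩⟩⟩
  rintro ⟨_, x, rfl, hx⟩ ⟨_, y, rfl, hy⟩
  have key : ∀ x : G, (∀ ω : Ω, x • ω ≠ ω) → IsConj d x := fun x hx => by
    have hxD : x ∈ D := Finset.mem_filter.mpr ⟨Finset.mem_univ x, hx⟩
    rw [← himg] at hxD
    obtain ⟨h, -, rfl⟩ := Finset.mem_image.mp hxD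
    exact isConj_iff.mpr ⟨h, rfl⟩
  exact Subtype.ext (ConjClasses.mk_eq_mk_iff_isConj.mpr ((key x hx).symm.trans (key y hy)))

omit [Finite Ω] in
/-- An abelian regular normal subgroup whose non-trivial elements are all conjugate makes the
group doubly transitive. -/
theorem two_transitive_of_conjugate (N : Subgroup G) [N.Normal] [IsMulCommutative N]
    [IsPretransitive N Ω]
    (hc : ∀ m n : G, m ∈ N → n ∈ N → m ≠ 1 → n ≠ 1 → IsConj m n) :
    IsMultiplyPretransitive G Ω 2 := by
  rcases isEmpty_or_nonempty Ω with h | ⟨⟨α⟩⟩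
  · exact Perm.isMultiplyPretransitive_of_tuples fun x => isEmptyElim (x 0)
  haveI : IsPretransitive G Ω := ⟨fun a b => by
    obtain ⟨n, hn⟩ := exists_smul_eq N a b
    exact ⟨n, hn⟩⟩
  refine Perm.two_pretransitive_of_stabilizer α fun b c hb hc' => ?_
  obtain ⟨m, hm, rfl⟩ := Perm.exists_mem_smul_eq N α b
  obtain ⟨n, hn, rfl⟩ := Perm.exists_mem_smul_eq N α c
  obtain ⟨g, hg⟩ := isConj_iff.mp (hc m n hm hn (fun h => hb (by rw [h, one_smul]))
    (fun h => hc' (by rw [h, one_smul])))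
  obtain ⟨l, hl, hlα⟩ := Perm.exists_mem_smul_eq N α (g • α)
  have hln : n * l = l * n := congrArg Subtype.val (mul_comm' (⟨n, hn⟩ : N) ⟨l, hl⟩)
  refine ⟨l⁻¹ * g, by rw [mul_smul, ← hlα, inv_smul_smul], ?_⟩
  calc (l⁻¹ * g) • m • α = l⁻¹ • (g * m * g⁻¹) • g • α := by
        simp only [← mul_smul]; group
    _ = l⁻¹ • n • l • α := by rw [hg, hlα]
    _ = n • α := by rw [← mul_smul n, hln, mul_smul, inv_smul_smul]

end Cfsg.Agent.Lib.Primitive62
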